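import Cfsg.Agent.H823.BG.Ito

/-!
# S3561: the diagonal case (helper823)
-/

set_option autoImplicit false

namespace Cfsg.Agent.H823.BG

open Subgroup MulAction Cfsg.Agent.H893 Cfsg.Agent.H893.Fac

section
variable {G : Type*} [Group G] {N : Subgroup G} {m : ℕ} {T : Fin m → Subgroup G} {e : N ≃* (∀ i, T i)}

/-- conjugation by an element normalising one factor, in the coordinate of this factor -/
theorem cj_coord [N.Normal] (h : Fac N m T e) {k : G} {i : Fin m} (hk : k ∈ normalizer (T i : Set G)) (n : N) :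
    e (cj N k n) i = (T i).normalizerMonoidHom ⟨k, hk⟩ (e n i) := by
  have hij : T i = (T i).map (MulAut.conj k).toMonoidHom := (mem_normalizer_iff_map_conj_eq.mp hk).symm
  have h1 := (h.cj_eq_cj k i i hij n (e.symm (Pi.mulSingle i (e n i)))).mpr
    (by rw [MulEquiv.apply_symm_apply, Pi.mulSingle_eq_same])
  rw [h1]
  have h2 : cj N k (e.symm (Pi.mulSingle i (e n i))) =
      e.symm (Pi.mulSingle i ((T i).normalizerMonoidHom ⟨k, hk⟩ (e n i))) := by
    apply Subtype.ext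
    rw [h.single]
    change k * ((e.symm (Pi.mulSingle i (e n i)) : N) : G) * k⁻¹ = _
    rw [h.single]
    rfl
  rw [h2, MulEquiv.apply_symm_apply, Pi.mulSingle_eq_same]

/-- the key identity -/
theorem key [N.Normal] {Ω : Type*} [MulAction G Ω] (h : Fac N m T e) {ω : Ω}
    {c₀ : Fin m} {φ : ∀ i, T c₀ ≃* T i} (hmem : ∀ n : N, (n : G) ∈ stabilizer G ω ↔ ∀ i, e n i = φ i (e n c₀))
    (hfull : ∀ i (t : T i), ∃ n : N, (n : G) ∈ stabilizer G ω ∧ e n i = t)
    {r : G} {n : N} (hrn : (n : G) • ω = r • ω) {i j : Fin m} (hri : r ∈ normalizer (T i : Set G))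
    (hrj : r ∈ normalizer (T j : Set G)) (t : T j) :
    (e n i)⁻¹ * (T i).normalizerMonoidHom ⟨r, hri⟩ (φ i ((φ j).symm t)) * e n i =
      φ i ((φ j).symm ((e n j)⁻¹ * (T j).normalizerMonoidHom ⟨r, hrj⟩ t * e n j)) := by
  obtain ⟨d, hd, hdt⟩ := hfull j t
  have hθ : ∀ x : N, (x : G) ∈ stabilizer G ω → e x i = φ i ((φ j).symm (e x j)) := by
    intro x hx
    have h1 := (hmem x).mp hx
    rw [h1 j, MulEquiv.symm_apply_apply, ← h1 i]
  have hk : (n : G)⁻¹ * r ∈ stabilizer G ω := by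
    rw [mem_stabilizer_iff, mul_smul, ← hrn, inv_smul_smul]
  have h2 : ((n⁻¹ * cj N r d * n : N) : G) ∈ stabilizer G ω := by
    have h3 : ((n⁻¹ * cj N r d * n : N) : G) = ((n : G)⁻¹ * r) * (d : G) * ((n : G)⁻¹ * r)⁻¹ := by
      change (n : G)⁻¹ * (r * (d : G) * r⁻¹) * (n : G) = _
      group
    rw [h3]
    exact (stabilizer G ω).mul_mem ((stabilizer G ω).mul_mem hk hd) ((stabilizer G ω).inv_mem hk)
  have h4 := hθ _ h2
  rw [map_mul, map_mul, map_inv, Pi.mul_apply, Pi.mul_apply, Pi.inv_apply, Pi.mul_apply, Pi.mul_apply, Pi.inv_apply,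
    cj_coord h hri, cj_coord h hrj, hdt, hθ d hd, hdt] at h4
  exact h4

end

variable {G Ω : Type*} [Group G] [Finite G] [MulAction G Ω] [FaithfulSMul G Ω] [Finite Ω]
  {N : Subgroup G} [N.Normal] {m : ℕ} {T : Fin m → Subgroup G} {e : N ≃* (∀ i, T i)}

theorem arith {t m b c l q : ℕ} (h1 : t ^ m ≤ b * c * l * t) (hc : c ≤ t ^ q) (hb : 2 * b < t) (hm : l + q = m)
    (hl : 2 ≤ l) (ht : 2 ≤ t) : False := by
  obtain ⟨k, rfl⟩ := Nat.exists_eq_add_of_le hl
  subst hm
  have h2 : t ^ (2 + k + q) ≤ b * t ^ q * (2 + k) * t :=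
    h1.trans (Nat.mul_le_mul_right _ (Nat.mul_le_mul_right _ (Nat.mul_le_mul_left _ hc)))
  have htq : 0 < t ^ q := Nat.pow_pos (by omega)
  have h3 : t ^ k * t ≤ b * (2 + k) := by
    have h4 : t ^ k * t * (t ^ q * t) ≤ b * (2 + k) * (t ^ q * t) := by
      calc t ^ k * t * (t ^ q * t) = t ^ (2 + k + q) := by ring
        _ ≤ _ := h2
        _ = _ := by ring
    exact Nat.le_of_mul_le_mul_right h4 (Nat.mul_pos htq (by omega))
  have h4 : k + 1 ≤ t ^ k := by
    calc k + 1 ≤ 2 ^ k := Nat.lt_two_pow_self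
      _ ≤ t ^ k := Nat.pow_le_pow_left ht k
  have h5 : (k + 1) * t ≤ b * (2 + k) := (Nat.mul_le_mul_right t h4).trans h3
  have h6 : 2 * (b * (2 + k)) < t * (2 + k) := by
    rw [← mul_assoc]
    exact Nat.mul_lt_mul_of_pos_right hb (by omega)
  have h7 : 2 * ((k + 1) * t) < t * (2 + k) := lt_of_le_of_lt (Nat.mul_le_mul_left 2 h5) h6
  have h8 : t * (2 + k) ≤ 2 * ((k + 1) * t) := by
    calc t * (2 + k) ≤ t * (2 + k) + t * k := Nat.le_add_right _ _
      _ = _ := by ring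
  omega

/-- `R` moves a factor -/
theorem diagonal_move (h : Fac N m T e) {ω : Ω} (hN : ∀ x y : Ω, ∃ n ∈ N, n • x = y)
    (c₀ : Fin m) (φ : ∀ i, T c₀ ≃* T i) (hmem : ∀ n : N, (n : G) ∈ stabilizer G ω ↔ ∀ i, e n i = φ i (e n c₀))
    (hfull : ∀ i (t : T i), ∃ n : N, (n : G) ∈ stabilizer G ω ∧ e n i = t)
    (hB : ∀ (i : Fin m) (B : Subgroup (MulAut (T i))), (∀ a ∈ B, ∀ b ∈ B, a * b = b * a) →
      2 * Nat.card B < Nat.card (T i))
    (R : Subgroup G) (hR : ∀ x ∈ R, ∀ y ∈ R, x * y = y * x) (hRt : ∀ x y : Ω, ∃ r ∈ R, r • x = y)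
    (hRf : ∀ x : Ω, ∀ r ∈ R, r • x = x → r = 1) {r₀ : G} (hr₀ : r₀ ∈ R) {i₀ : Fin m} (hi₀ : h.perm r₀ i₀ ≠ i₀) :
    False := by
  classical
  have hinst : ∀ i, IsSimpleGroup (T i) := h.simple
  have hcen : ∀ i, center (T i) = ⊥ := fun i => center_eq_bot (h.nonab i)
  let act : MulAction R (Fin m) := MulAction.compHom (Fin m) (h.perm.comp R.subtype)
  have hact : ∀ (r : R) (i : Fin m), r • i = h.perm r i := fun _ _ => rfl
  -- the orbit
  obtain ⟨O, hO⟩ : ∃ O : Set (Fin m), O = orbit R i₀ := ⟨_, rfl⟩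
  obtain ⟨S, hS⟩ : ∃ S : Subgroup R, S = stabilizer R i₀ := ⟨_, rfl⟩
  have hSn : ∀ s : S, ((s : R) : G) ∈ normalizer (T i₀ : Set G) := by
    intro s
    have h1 : (s : R) • i₀ = i₀ := hS.le s.2
    rw [mem_normalizer_iff_map_conj_eq]
    refine (h.perm_spec _ i₀).symm.trans ?_
    rw [← hact, h1]
  let f : S →* normalizer (T i₀ : Set G) := (R.subtype.comp S.subtype).codRestrict _ hSn
  let β : S →* MulAut (T i₀) := (T i₀).normalizerMonoidHom.comp f
  -- elements of the kernel centralise all the factors of the orbit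
  have hker : ∀ c : S, c ∈ β.ker → ∀ i ∈ O, ∀ x ∈ T i, ((c : R) : G) * x = x * ((c : R) : G) := by
    intro c hc i hi x hx
    rw [hO] at hi
    obtain ⟨r, hr⟩ := hi
    have h1 : T i = (T i₀).map (MulAut.conj (r : G)).toMonoidHom := by
      rw [← h.perm_spec, ← hact]
      exact congrArg T hr.symm
    rw [h1] at hx
    obtain ⟨y, hy, hyx⟩ := hx
    have h2 : x = (r : G) * y * (r : G)⁻¹ := hyx.symm
    have h3 : β c ⟨y, hy⟩ = ⟨y, hy⟩ := by
      rw [MonoidHom.mem_ker] at hc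
      rw [hc]
      rfl
    have h4 : ((c : R) : G) * y * ((c : R) : G)⁻¹ = y := congrArg Subtype.val h3
    have h5 : ((c : R) : G) * y = y * ((c : R) : G) := by
      rw [mul_inv_eq_iff_eq_mul] at h4
      exact h4
    have h6 : ((c : R) : G) * (r : G) = (r : G) * ((c : R) : G) := hR _ (c : R).2 _ r.2
    have h7 : ((c : R) : G) * (r : G)⁻¹ = (r : G)⁻¹ * ((c : R) : G) := hR _ (c : R).2 _ (R.inv_mem r.2)
    rw [h2]
    calc ((c : R) : G) * ((r : G) * y * (r : G)⁻¹) = (((c : R) : G) * (r : G)) * y * (r : G)⁻¹ := by group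
      _ = (r : G) * (((c : R) : G) * y) * (r : G)⁻¹ := by rw [h6]; group
      _ = (r : G) * y * (((c : R) : G) * (r : G)⁻¹) := by rw [h5]; group
      _ = _ := by rw [h7]; group
  have hex : ∀ c : β.ker, ∃ n : N, (∀ i ∈ O, e n i = 1) ∧ (n : G) • ω = ((c : S) : G) • ω := by
    rintro ⟨c, hc⟩
    obtain ⟨n, hn, hnω⟩ := hN ω (((c : R) : G) • ω)
    have hcn : ∀ i ∈ O, ((c : R) : G) ∈ normalizer (T i : Set G) := by
      intro i hi
      rw [mem_normalizer_iff]
      intro x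
      constructor
      · intro hx
        rw [hker c hc i hi x hx, mul_inv_cancel_right]
        exact hx
      · intro hx
        have h1 := hker c hc i hi _ hx
        have h2 : ((c : R) : G) * x * ((c : R) : G)⁻¹ = x := by
          have h3 : ((c : R) : G) * (((c : R) : G) * x * ((c : R) : G)⁻¹) = ((c : R) : G) * x := by
            rw [h1, inv_mul_cancel_right]
          exact mul_left_cancel h3
        rwa [h2] at hx
    have hcc : ∀ i (hi : i ∈ O) (x : T i), (T i).normalizerMonoidHom ⟨(c : R), hcn i hi⟩ x = x := by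
      intro i hi x
      apply Subtype.ext
      change ((c : R) : G) * (x : G) * ((c : R) : G)⁻¹ = x
      rw [hker c hc i hi x x.2, mul_inv_cancel_right]
    have hi₀O : i₀ ∈ O := by rw [hO]; exact mem_orbit_self i₀
    have hni : ∀ i ∈ O, e ⟨n, hn⟩ i = φ i ((φ i₀).symm (e ⟨n, hn⟩ i₀)) := by
      intro i hi
      have h1 := fun t => key h hmem hfull (r := ((c : R) : G)) (n := ⟨n, hn⟩) hnω (hcn i hi) (hcn i₀ hi₀O) t
      have h2 : e ⟨n, hn⟩ i * (φ i ((φ i₀).symm (e ⟨n, hn⟩ i₀)))⁻¹ ∈ center (T i) := by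
        rw [mem_center_iff]
        intro x
        obtain ⟨t, rfl⟩ : ∃ t, φ i ((φ i₀).symm t) = x :=
          ⟨φ i₀ ((φ i).symm x), by rw [MulEquiv.symm_apply_apply, MulEquiv.apply_symm_apply]⟩
        have h3 := h1 t
        rw [hcc i hi, hcc i₀ hi₀O] at h3
        simp only [map_mul, map_inv] at h3
        obtain ⟨a, ha⟩ : ∃ a, a = e ⟨n, hn⟩ i := ⟨_, rfl⟩
        obtain ⟨b, hb⟩ : ∃ b, b = φ i ((φ i₀).symm (e ⟨n, hn⟩ i₀)) := ⟨_, rfl⟩
        obtain ⟨y, hy⟩ : ∃ y, y = φ i ((φ i₀).symm t) := ⟨_, rfl⟩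
        rw [← ha, ← hb, ← hy] at h3
        rw [← ha, ← hb, ← hy]
        calc y * (a * b⁻¹) = a * (a⁻¹ * y * a) * b⁻¹ := by group
          _ = a * (b⁻¹ * y * b) * b⁻¹ := by rw [h3]
          _ = _ := by group
      rw [hcen i, mem_bot, mul_inv_eq_one] at h2
      exact h2
    obtain ⟨x, hx, hxn⟩ := hfull i₀ (e ⟨n, hn⟩ i₀)
    refine ⟨⟨n, hn⟩ * x⁻¹, ?_, ?_⟩
    · intro i hi
      have h1 := (hmem x).mp hx
      have h2 : e x i = φ i ((φ i₀).symm (e x i₀)) := by
        rw [h1 i₀, MulEquiv.symm_apply_apply, ← h1 i]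
      rw [map_mul, map_inv, Pi.mul_apply, Pi.inv_apply, hni i hi, h2, hxn, mul_inv_cancel]
    · rw [Subgroup.coe_mul, Subgroup.coe_inv, mul_smul]
      have h1 : (x : G)⁻¹ • ω = ω := (stabilizer G ω).inv_mem hx
      rw [h1]
      exact hnω
  choose F hF1 hF2 using hex
  -- cardinalities
  obtain ⟨t, ht⟩ : ∃ t, t = Nat.card (T i₀) := ⟨_, rfl⟩
  have htc : ∀ i, Nat.card (T i) = t := by
    intro i
    rw [ht]
    exact Nat.card_congr (((φ i).symm.trans (φ i₀)).toEquiv)
  have hCcard : Nat.card β.ker ≤ t ^ Nat.card ↥Oᶜ := by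
    have h1 : Function.Injective (fun (c : β.ker) (i : ↥Oᶜ) => e (F c) i) := by
      intro c c' hcc
      have h2 : e (F c) = e (F c') := by
        funext i
        by_cases hi : i ∈ O
        · rw [hF1 c i hi, hF1 c' i hi]
        · exact congrFun hcc ⟨i, hi⟩
      have h3 : F c = F c' := e.injective h2
      have h4 : (((c : S) : R) : G) • ω = (((c' : S) : R) : G) • ω := by
        have := hF2 c
        rw [h3, hF2 c'] at this
        exact this.symm
      have h5 : ((((c' : S) : R) : G)⁻¹ * (((c : S) : R) : G)) • ω = ω := by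
        rw [mul_smul, h4, inv_smul_smul]
      have h6 := hRf ω _ (R.mul_mem (R.inv_mem (c' : S).1.2) (c : S).1.2) h5
      have h7 := inv_mul_eq_one.mp h6
      exact Subtype.ext (Subtype.ext (Subtype.ext h7.symm))
    have h2 := Nat.card_le_card_of_injective _ h1
    have h3 : Nat.card (∀ i : ↥Oᶜ, T i) = t ^ Nat.card ↥Oᶜ := by
      rw [Nat.card_pi, Finset.prod_congr rfl (fun (i : ↥Oᶜ) _ => htc i), Finset.prod_const, Finset.card_univ,
        Nat.card_eq_fintype_card]
    rwa [h3] at h2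
  have hNcard : t ^ m ≤ Nat.card Ω * t := by
    have h1 : Nat.card N = t ^ m := by
      rw [Nat.card_congr e.toEquiv, Nat.card_pi, Finset.prod_congr rfl (fun i _ => htc i), Finset.prod_const,
        Finset.card_univ, Fintype.card_fin]
    have hpt : IsPretransitive N Ω := by
      constructor
      intro x y
      obtain ⟨n, hn, hnx⟩ := hN x y
      exact ⟨⟨n, hn⟩, hnx⟩
    have h2 := index_stabilizer_of_transitive N ω
    have h3 := (stabilizer N ω).card_mul_index
    rw [h2, h1] at h3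
    have h4 : Nat.card (stabilizer N ω) ≤ t := by
      rw [← htc c₀]
      apply Nat.card_le_card_of_injective (fun x : stabilizer N ω => e (x : N) c₀)
      intro x y hxy
      apply Subtype.ext
      apply e.injective
      funext i
      have hx := (hmem (x : N)).mp x.2 i
      have hy := (hmem (y : N)).mp y.2 i
      rw [hx, hy]
      exact congrArg (φ i) hxy
    rw [← h3, mul_comm]
    exact Nat.mul_le_mul_left _ h4
  have hΩR : Nat.card Ω = Nat.card R := by
    have hpt : IsPretransitive R Ω := by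
      constructor
      intro x y
      obtain ⟨n, hn, hnx⟩ := hRt x y
      exact ⟨⟨n, hn⟩, hnx⟩
    have h2 := index_stabilizer_of_transitive R ω
    have h3 : stabilizer R ω = ⊥ := by
      rw [eq_bot_iff]
      intro x hx
      rw [mem_bot]
      exact Subtype.ext (hRf ω x x.2 hx)
    rw [h3, index_bot] at h2
    exact h2.symm
  have hRcard : Nat.card R = Nat.card β.range * Nat.card β.ker * O.ncard := by
    have h1 := S.card_mul_index
    have h2 : S.index = O.ncard := by rw [hS, hO]; exact index_stabilizer R i₀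
    have h3 := β.ker.card_mul_index
    rw [Subgroup.index_ker] at h3
    rw [← h1, h2, ← h3, mul_comm (Nat.card β.ker)]
  have hBcard : 2 * Nat.card β.range < t := by
    rw [ht]
    apply hB i₀
    rintro _ ⟨a, rfl⟩ _ ⟨b, rfl⟩
    rw [← map_mul, ← map_mul]
    congr 1
    exact Subtype.ext (Subtype.ext (hR _ (a : R).2 _ (b : R).2))
  have hOcard : O.ncard + Nat.card ↥Oᶜ = m := by
    have h1 := Set.ncard_add_ncard_compl O
    rw [Nat.card_eq_fintype_card, Fintype.card_fin] at h1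
    rw [Nat.card_coe_set_eq]
    exact h1
  have hO2 : 2 ≤ O.ncard := by
    have h1 : ({i₀, h.perm r₀ i₀} : Set (Fin m)) ⊆ O := by
      intro x hx
      rcases hx with rfl | rfl
      · rw [hO]; exact mem_orbit_self _
      · rw [hO]; exact ⟨⟨r₀, hr₀⟩, rfl⟩
    have h2 := Set.ncard_le_ncard h1 (Set.toFinite O)
    rwa [Set.ncard_pair hi₀.symm] at h2
  have ht2 : 2 ≤ t := by
    have h1 : 1 ≤ Nat.card β.range := Nat.card_pos
    omega
  rw [hΩR, hRcard] at hNcard
  exact arith hNcard hCcard hBcard hOcard hO2 ht2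

/-- **the diagonal case** -/
theorem diagonal (h : Fac N m T e) {ω : Ω} (hN : ∀ x y : Ω, ∃ n ∈ N, n • x = y) (hm : 2 ≤ m)
    (c₀ : Fin m) (φ : ∀ i, T c₀ ≃* T i) (hmem : ∀ n : N, (n : G) ∈ stabilizer G ω ↔ ∀ i, e n i = φ i (e n c₀))
    (hfull : ∀ i (t : T i), ∃ n : N, (n : G) ∈ stabilizer G ω ∧ e n i = t)
    (hB : ∀ (i : Fin m) (B : Subgroup (MulAut (T i))), (∀ a ∈ B, ∀ b ∈ B, a * b = b * a) →
      2 * Nat.card B < Nat.card (T i))
    (R : Subgroup G) (hR : ∀ x ∈ R, ∀ y ∈ R, x * y = y * x) (hRt : ∀ x y : Ω, ∃ r ∈ R, r • x = y)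
    (hRf : ∀ x : Ω, ∀ r ∈ R, r • x = x → r = 1) : False := by
  classical
  by_cases hmv : ∃ r₀ ∈ R, ∃ i₀, h.perm r₀ i₀ ≠ i₀
  · obtain ⟨r₀, hr₀, i₀, hi₀⟩ := hmv
    exact diagonal_move h hN c₀ φ hmem hfull hB R hR hRt hRf hr₀ hi₀
  · push Not at hmv
    have hRn : ∀ i, R ≤ normalizer (T i : Set G) := by
      intro i r hr
      rw [mem_normalizer_iff_map_conj_eq]
      refine (h.perm_spec _ i).symm.trans ?_
      rw [hmv r hr]
    let i : Fin m := ⟨0, by omega⟩
    let j : Fin m := ⟨1, by omega⟩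
    have hij : i ≠ j := by
      intro hh
      have := congrArg Fin.val hh
      simp [i, j] at this
    have hinst : IsSimpleGroup (T i) := h.simple i
    let θ : T j ≃* T i := (φ j).symm.trans (φ i)
    let β₁ : R →* MulAut (T i) := (T i).normalizerMonoidHom.comp (inclusion (hRn i))
    let β₂ : R →* MulAut (T i) := (MulAut.congr θ).toMonoidHom.comp
      ((T j).normalizerMonoidHom.comp (inclusion (hRn j)))
    have hβ : ∀ (r : R) (n : N), (n : G) • ω = (r : G) • ω →
        β₁ r * (β₂ r)⁻¹ = MulAut.conj (e n i * (θ (e n j))⁻¹) := by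
      intro r n hn
      rw [mul_inv_eq_iff_eq_mul]
      ext x
      obtain ⟨t, rfl⟩ := θ.surjective x
      have h1 := key h hmem hfull hn (hRn i r.2) (hRn j r.2) t
      have h2 : β₁ r (θ t) = e n i * (θ ((e n j)⁻¹ * (T j).normalizerMonoidHom ⟨r, hRn j r.2⟩ t * e n j)) * (e n i)⁻¹ := by
        have h3 : θ ((e n j)⁻¹ * (T j).normalizerMonoidHom ⟨r, hRn j r.2⟩ t * e n j) =
            (e n i)⁻¹ * β₁ r (θ t) * e n i := h1.symm
        rw [h3]
        group
      have h4 : β₂ r (θ t) = θ ((T j).normalizerMonoidHom ⟨r, hRn j r.2⟩ t) := by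
        change θ ((T j).normalizerMonoidHom ⟨r, hRn j r.2⟩ (θ.symm (θ t))) = _
        rw [MulEquiv.symm_apply_apply]
      rw [MulAut.mul_apply, h2, h4, MulAut.conj_apply, map_mul, map_mul, map_inv]
      congr 1
      group
    apply not_solvable (h.nonab i)
    apply ito (center_eq_bot (h.nonab i)) (R := R) (fun x y => Subtype.ext (hR x x.2 y y.2)) β₁ β₂
    · intro r
      obtain ⟨n, hn, hnr⟩ := hN ω ((r : G) • ω)
      exact ⟨_, hβ r ⟨n, hn⟩ hnr⟩
    · intro t
      obtain ⟨r, hr, hrt⟩ := hRt ω (((e.symm (Pi.mulSingle i t) : N) : G) • ω)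
      refine ⟨⟨r, hr⟩, ?_⟩
      rw [hβ ⟨r, hr⟩ _ hrt.symm, MulEquiv.apply_symm_apply, Pi.mulSingle_eq_same, Pi.mulSingle_eq_of_ne hij.symm,
        map_one, inv_one, mul_one]

end Cfsg.Agent.H823.BG
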