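import Cfsg.Agent.S0572
import Cfsg.Agent.H57.BG.Scott

/-!
# S3561: the Itô argument and the regular simple case (helper823)
-/

set_option autoImplicit false

namespace Cfsg.Agent.H823.BG

open Subgroup MulAction

/-- two homomorphisms of an abelian group to `Aut T` whose quotients are all the inner automorphisms -/
theorem ito {T R : Type*} [Group T] [Group R] (hc : center T = ⊥) (hR : ∀ x y : R, x * y = y * x)
    (β₁ β₂ : R →* MulAut T) (h1 : ∀ r, ∃ t, β₁ r * (β₂ r)⁻¹ = MulAut.conj t)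
    (h2 : ∀ t, ∃ r, β₁ r * (β₂ r)⁻¹ = MulAut.conj t) : Group.IsSolvable T := by
  let I : Subgroup (MulAut T) := (MulAut.conj : T →* MulAut T).range
  have hIn : I.Normal := by
    constructor
    rintro _ ⟨t, rfl⟩ a
    refine ⟨a t, ?_⟩
    ext y
    simp [MulAut.conj_apply]
  let B : Subgroup (MulAut T) := β₂.range
  let A : Subgroup (MulAut T) := β₁.range
  let H : Subgroup (MulAut T) := I ⊔ B
  have hA : A ≤ H := by
    rintro _ ⟨r, rfl⟩
    obtain ⟨t, ht⟩ := h1 r
    have h3 : β₁ r = MulAut.conj t * β₂ r := by rw [← ht, inv_mul_cancel_right]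
    rw [h3]
    exact H.mul_mem (mem_sup_left ⟨t, rfl⟩) (mem_sup_right ⟨r, rfl⟩)
  have hmem : ∀ x ∈ H, ∃ a ∈ A, ∃ b ∈ B, x = a * b := by
    intro x hx
    have hx' : x ∈ ((I ⊔ B : Subgroup (MulAut T)) : Set (MulAut T)) := hx
    rw [Subgroup.normal_mul] at hx'
    obtain ⟨_, ⟨t, rfl⟩, _, ⟨s, rfl⟩, rfl⟩ := Set.mem_mul.mp hx'
    obtain ⟨r, hr⟩ := h2 t
    refine ⟨β₁ r, ⟨r, rfl⟩, (β₂ r)⁻¹ * β₂ s, B.mul_mem (B.inv_mem ⟨r, rfl⟩) ⟨s, rfl⟩, ?_⟩
    change MulAut.conj t * β₂ s = _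
    rw [← hr, mul_assoc]
  have hAc : IsMulCommutative (A.subgroupOf H) := by
    refine ⟨⟨?_⟩⟩
    rintro ⟨⟨a, ha⟩, ha'⟩ ⟨⟨b, hb⟩, hb'⟩
    apply Subtype.ext
    apply Subtype.ext
    obtain ⟨r, hr⟩ : a ∈ A := ha'
    obtain ⟨s, hs⟩ : b ∈ A := hb'
    change a * b = b * a
    rw [← hr, ← hs, ← map_mul, hR, map_mul]
  have hBc : IsMulCommutative (B.subgroupOf H) := by
    refine ⟨⟨?_⟩⟩
    rintro ⟨⟨a, ha⟩, ha'⟩ ⟨⟨b, hb⟩, hb'⟩
    apply Subtype.ext
    apply Subtype.ext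
    obtain ⟨r, hr⟩ : a ∈ B := ha'
    obtain ⟨s, hs⟩ : b ∈ B := hb'
    change a * b = b * a
    rw [← hr, ← hs, ← map_mul, hR, map_mul]
  have hd : derivedSeries H 2 = ⊥ := by
    apply Cfsg.Agent.S0572.result (A.subgroupOf H) (B.subgroupOf H)
    rintro ⟨x, hx⟩
    obtain ⟨a, ha, b, hb, hab⟩ := hmem x hx
    exact ⟨⟨a, hA ha⟩, ha, ⟨b, mem_sup_right hb⟩, hb, Subtype.ext hab⟩
  have hH : Group.IsSolvable H := ⟨⟨2, hd⟩⟩
  let f : T →* H := (MulAut.conj : T →* MulAut T).codRestrict H fun t => mem_sup_left ⟨t, rfl⟩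
  have hf : Function.Injective f := by
    rw [injective_iff_map_eq_one]
    intro t ht
    have h3 : MulAut.conj t = (1 : MulAut T) := congrArg Subtype.val ht
    have h4 : t ∈ center T := by
      rw [mem_center_iff]
      intro g
      have h5 := congrArg (fun a : MulAut T => a g) h3
      simp only [MulAut.conj_apply, MulAut.one_apply] at h5
      rw [mul_inv_eq_iff_eq_mul] at h5
      exact h5.symm
    rwa [hc, mem_bot] at h4
  exact Group.isSolvable_of_isSolvable_injective hf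

/-- a non-abelian simple group has trivial center -/
theorem center_eq_bot {T : Type*} [Group T] [IsSimpleGroup T] (hna : ∃ a b : T, a * b ≠ b * a) : center T = ⊥ := by
  rcases (inferInstance : (center T).Normal).eq_bot_or_eq_top with h | h
  · exact h
  · exfalso
    obtain ⟨a, b, hab⟩ := hna
    apply hab
    have h1 : b ∈ center T := by rw [h]; exact mem_top b
    exact mem_center_iff.mp h1 a

theorem not_solvable {T : Type*} [Group T] [IsSimpleGroup T] (hna : ∃ a b : T, a * b ≠ b * a) : ¬ Group.IsSolvable T := by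
  intro h
  obtain ⟨a, b, hab⟩ := hna
  exact hab ((IsSimpleGroup.comm_iff_isSolvable (G := T)).mpr h a b)

variable {G Ω : Type*} [Group G] [Finite G] [MulAction G Ω] [FaithfulSMul G Ω] [Finite Ω]
  {N : Subgroup G} [N.Normal]

/-- **the regular simple case** -/
theorem regular (hs : IsSimpleGroup N) (hna : ∃ a b : N, a * b ≠ b * a) {ω : Ω} (hN : ∀ x y : Ω, ∃ n ∈ N, n • x = y)
    (hreg : ∀ n ∈ N, n • ω = ω → n = 1)
    (R : Subgroup G) (hR : ∀ x ∈ R, ∀ y ∈ R, x * y = y * x) (hRt : ∀ x y : Ω, ∃ r ∈ R, r • x = y)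
    (hRf : ∀ x : Ω, ∀ r ∈ R, r • x = x → r = 1) : False := by
  have hex : ∀ r : R, ∃ n : N, (n : G) • ω = (r : G) • ω := by
    intro r
    obtain ⟨n, hn, h⟩ := hN ω ((r : G) • ω)
    exact ⟨⟨n, hn⟩, h⟩
  choose t ht using hex
  have huniq : ∀ n m : N, (n : G) • ω = (m : G) • ω → n = m := by
    intro n m h
    have h1 : ((m⁻¹ * n : N) : G) • ω = ω := by
      rw [Subgroup.coe_mul, Subgroup.coe_inv, mul_smul, h, inv_smul_smul]
    have h2 := hreg _ (m⁻¹ * n).2 h1
    have h3 : m⁻¹ * n = 1 := Subtype.ext h2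
    exact (inv_mul_eq_one.mp h3).symm
  let a : R →* G :=
    { toFun := fun r => (t r : G)⁻¹ * r
      map_one' := by
        have h1 : t 1 = 1 := huniq _ _ (by rw [ht]; rfl)
        rw [h1]
        simp
      map_mul' := by
        intro r s
        have h1 : t (r * s) = ⟨(r : G) * (t s : G) * (r : G)⁻¹, (inferInstance : N.Normal).conj_mem _ (t s).2 r⟩ * t r := by
          apply huniq
          rw [ht, Subgroup.coe_mul, Subgroup.coe_mul, mul_smul, mul_smul, ht, ← mul_smul, mul_smul (r : G), ← ht s,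
            ← mul_smul, ← mul_smul]
          congr 1
          group
        rw [h1, Subgroup.coe_mul, Subgroup.coe_mul]
        change ((r : G) * (t s : G) * (r : G)⁻¹ * (t r : G))⁻¹ * ((r : G) * (s : G)) = _
        group }
  let β₁ : R →* MulAut N := (MulAut.conjNormal (H := N)).comp R.subtype
  let β₂ : R →* MulAut N := (MulAut.conjNormal (H := N)).comp a
  have hβ : ∀ r, β₁ r * (β₂ r)⁻¹ = MulAut.conj (t r) := by
    intro r
    rw [mul_inv_eq_iff_eq_mul]
    ext x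
    change ((MulAut.conjNormal (r : G) x : N) : G) = ((MulAut.conj (t r) (MulAut.conjNormal ((t r : G)⁻¹ * (r : G)) x) : N) : G)
    rw [MulAut.conj_apply, Subgroup.coe_mul, Subgroup.coe_mul, MulAut.conjNormal_apply, MulAut.conjNormal_apply,
      Subgroup.coe_inv]
    group
  apply not_solvable hna
  apply ito (center_eq_bot hna) (R := R) (fun x y => Subtype.ext (hR x x.2 y y.2)) β₁ β₂ (fun r => ⟨t r, hβ r⟩)
  intro n
  obtain ⟨r, hr, h⟩ := hRt ω ((n : G) • ω)
  refine ⟨⟨r, hr⟩, ?_⟩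
  rw [hβ, huniq (t ⟨r, hr⟩) n (by rw [ht]; exact h)]

end Cfsg.Agent.H823.BG
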